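import Cfsg.Agent.H0.TC
set_option maxRecDepth 100000
namespace H0.TCHe6
open H0
noncomputable def tS : Tr := (.leaf (nat_lit 0xffcde8ca904ffffa423137946ffcdc5bd3d8cbff8c96e74cdcffcda4ee645b7ff9920736975ffcd98193b5c7ff818d969d70ffca78e9d8423ff7623929d7effca54e1066abff8e937a6ca5ffca34120c4dbff8326f28e6dffca29b9046a7ff9b8a2b3da8ffca06b5015ffff47dac478a0ffc9e3fd7d6afff475002791cffc9d5ed793ffff46c9d468feffd194609d40bff1ad7533147ffce75d0e61afff1a4ca51573ffce532c69393ff1a143504caffce31a0e2327ff384e01a139ffc6631d3f3f3ff37d3c198deffc654f4c74efff374653713affcdb368d9197ff0cc9442131ffca84143329fff0c90625104ffca60c8a540fff290a328832ffc31404ff253ff2843128093ffc9f27831277ff000cc328c7ffc6c0006b31bff1a86900068ffc6719865003ff0d0330c831))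
noncomputable def tJ : Tr := (.leaf (nat_lit 0x306112100263307112000337308112100284307112200721306002101060307110002307308102101080307010202700307010000007308100100280306002200601100063307010000007308100100280306002200601100060308102100080307010200700000007308100100080307010200700000007306002200601100060306000200600100060000006000000))
noncomputable def tQ : Tr := (.leaf (nat_lit 0x0))
noncomputable def tR : TC.WTr := (.node (.node (.node (.node (.node (.leaf [0] 0 0 false) (.leaf [1, 3, 1] 9 1 false)) (.leaf [0, 1, 0, 1, 0, 1, 0] 4 1 false)) (.node (.leaf [2, 1, 0, 2, 1, 0, 3, 2, 1] 7 3 false) (.leaf [1, 2, 1, 2, 1] 6 1 false))) (.node (.node (.node (.leaf [3, 0, 3] 8 0 false) (.leaf [3] 3 0 false)) (.leaf [2] 2 0 false)) (.node (.leaf [3, 1, 3] 9 0 false) (.leaf [2] 2 0 false)))) (.node (.node (.node (.node (.leaf [2, 0, 2] 5 0 false) (.leaf [2, 3, 2] 10 1 false)) (.leaf [1] 1 0 false)) (.node (.leaf [1] 1 0 false) (.leaf [0, 2, 0] 5 1 false))) (.node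 (.node (.node (.leaf [1, 0, 1, 0, 1, 0, 1] 4 0 false) (.leaf [3] 3 0 false)) (.leaf [3, 2, 3] 10 0 false)) (.node (.leaf [0, 2, 1, 0, 3, 2, 1, 0, 2] 7 5 false) (.leaf [3] 3 0 false)))))
def hl : List ℕ := []
def B : List (List ℕ) := [[0, 0], [1, 1], [2, 2], [3, 3], [0, 1, 0, 1, 0, 1, 0, 1], [0, 2, 0, 2], [1, 2, 1, 2, 1, 2], [3, 2, 1, 0, 2, 1, 0, 2, 1, 0], [0, 3, 0, 3], [1, 3, 1, 3], [2, 3, 2, 3]]
def subs : List (List ℕ) := []
def ex : List (List ℕ) := []
def inv (x : ℕ) : ℕ := [0, 1, 2, 3].getD x 0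
noncomputable def rS : ℕ → ℕ := rowOf tS (nat_lit 8) (nat_lit 255) (nat_lit 50) (nat_lit 1125899906842623)
noncomputable def rJ : ℕ → ℕ := rowOf tJ (nat_lit 8) (nat_lit 255) (nat_lit 24) (nat_lit 16777215)
noncomputable def C : TC.Cfg where
  S := look rS (nat_lit 10) (nat_lit 1023)
  J := look rJ (nat_lit 4) (nat_lit 15)
  Q := lookQ tQ (nat_lit 8) (nat_lit 1) (nat_lit 1)
  R := tR.get
  hl := fun x => hl.contains x
  n := (nat_lit 48)
  M := (nat_lit 48)
  top := (nat_lit 720)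
  nl := (nat_lit 4)
  need := (nat_lit 4)
  nr := (nat_lit 5)
theorem k0 : TC.chkRange C 0 1 = true := by decide +kernel
theorem rows0 : ∀ c < (0 + 1) * 64, c < C.M → TC.chkRow C c = true :=
  TC.rows_step (TC.rows_zero C) k0
theorem main {G : Type*} [Group G] (g : ℕ → G) (hB : ∀ r ∈ B, ev g r = 1) (H : Subgroup G)
    (hH : ∀ w ∈ subs, ev g w ∈ H) :
    H.relIndex (Subgroup.closure (g '' {x | x < 4})) ≠ 0 ∧
      H.relIndex (Subgroup.closure (g '' {x | x < 4})) ≤ 48 :=
  TC.index_le C B subs ex inv hl tR.hint rfl (by decide +kernel) (by decide +kernel)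
    (TC.rows_done rows0 (by decide +kernel)) g hB H hH
end H0.TCHe6
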